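import Groth.Agent.Sga3.DescendIsotrivial
import Groth.Agent.Sga3.CharField
import Groth.Agent.Sga3.MultTypeModule
import Groth.Agent.Hensel1.Pairs

/-!
Isotrivial groups of multiplicative type lift along henselian pairs.
-/

set_option autoImplicit false

universe u

open TensorProduct

noncomputable section

namespace Groth.Agent.Misc12.MultLift

open Groth.Sga3 Groth.Sga3.Descend Groth.Sga3.GroupAlg SGA3b MultType

variable {R : Type u} [CommRing R] (I : Ideal R) [HenselianRing R I]

/-- Group-like elements lift uniquely along a henselian pair. -/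
theorem liftProp_of_henselian (W : Type u) [CommRing W] [Algebra R W] [Algebra.IsIntegral R W] :
    LiftProp I W := by
  classical
  let J := I.map (algebraMap R W)
  obtain ⟨-, hinj, hsurj⟩ := Groth.Hensel1.bijOn_idempotents (A := R) (I := I) W
  refine ⟨fun N _ h hh => ?_, fun N _ g g' hg hg' hgg => ?_⟩
  · let ι := {n // n ∈ h.coeff.support}
    choose c hc hcq using fun i : ι => hsurj (groupLike_coeff_idem hh i.1)
    have hortho : ∀ i j : ι, i ≠ j → c i * c j = 0 := fun i j hij => by
      refine hinj ((IsIdempotentElem.mul (hc i) (hc j))) IsIdempotentElem.zero ?_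
      rw [map_mul, map_zero, hcq, hcq]
      exact (groupLike_coeff_mul hh i.1 j.1).trans (if_neg fun e => hij (Subtype.ext e))
    have horth : OrthogonalIdempotents c := ⟨hc, hortho⟩
    have hco : CompleteOrthogonalIdempotents c := ⟨horth, by
      refine hinj horth.isIdempotentElem_sum IsIdempotentElem.one ?_
      rw [map_sum, map_one]
      refine (Finset.sum_congr rfl fun i _ => hcq i).trans ?_
      exact (Finset.sum_coe_sort h.coeff.support fun n => cf n h).trans (groupLike_coeff_sum hh)⟩
    refine ⟨_, isGroupLikeElem_sum (fun i : ι => i.1) hco, ext_cf fun n => ?_⟩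
    rw [cf_mp, map_sum, map_sum]
    simp only [cf_single]
    by_cases hn : n ∈ h.coeff.support
    · rw [Finset.sum_eq_single (⟨n, hn⟩ : ι)]
      · rw [if_pos rfl]; exact hcq ⟨n, hn⟩
      · intro i _ hi
        rw [if_neg (fun hh => hi (Subtype.ext hh)), map_zero]
      · simp
    · rw [Finset.sum_eq_zero fun i _ => ?_]
      · exact (Finsupp.notMem_support_iff.1 hn).symm
      · rw [if_neg (fun (hh : i.1 = n) => hn (hh ▸ i.2)), map_zero]
  · refine ext_cf fun n => hinj (groupLike_coeff_idem hg n) (groupLike_coeff_idem hg' n) ?_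
    rw [← cf_mp, ← cf_mp, hgg]

/-- Isotrivial groups of multiplicative type lift along henselian pairs. -/
theorem exists_isotrivial_lift (A₀ : Type u) [CommRing A₀] [HopfAlgebra (R ⧸ I) A₀]
    (h0 : IsIsotrivial (R ⧸ I) A₀) :
    ∃ (A : Type u) (_ : CommRing A) (_ : HopfAlgebra R A), IsIsotrivial R A ∧
      Nonempty (((R ⧸ I) ⊗[R] A) ≃ₐc[R ⧸ I] A₀) := by
  obtain ⟨C, _, _, het, hfin, hffC, M, _, ⟨e⟩⟩ := h0
  obtain ⟨B, _, _, hfinB, hetB, ⟨ε⟩⟩ := Groth.Hensel1.exists_finite_etale_lift I C
  let J : Ideal B := I.map (algebraMap R B)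
  let E : (B ⧸ J) ≃ₐ[R] (R ⧸ I) ⊗[R] B :=
    ((Algebra.TensorProduct.quotIdealMapEquivTensorQuot B I).restrictScalars R).trans
      (Algebra.TensorProduct.comm R B (R ⧸ I))
  let E' : (B ⧸ J) ≃+* C := E.toRingEquiv.trans ε.toRingEquiv
  let π : B →+* C := E'.toRingHom.comp (Ideal.Quotient.mk J)
  have hπ : Function.Surjective π := E'.surjective.comp Ideal.Quotient.mk_surjective
  have hπR : ∀ r : R, π (algebraMap R B r) = algebraMap (R ⧸ I) C (Ideal.Quotient.mk I r) := by
    intro r
    change ε (E (algebraMap R (B ⧸ J) r)) = _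
    rw [E.commutes, IsScalarTower.algebraMap_apply R (R ⧸ I) ((R ⧸ I) ⊗[R] B), ε.commutes]
    rfl
  have hker : RingHom.ker π ≤ J := fun x hx => by
    rw [← Ideal.Quotient.eq_zero_iff_mem]
    exact E'.injective (by rw [map_zero]; exact hx)
  haveI : Module.Flat R B := inferInstance
  haveI := faithfullyFlat_of_mod I (HenselianRing.jac (I := I)) π hπR hπ
  have : Module.Finite R (B ⊗[R] B) := Module.Finite.trans B _
  have : Module.Finite R (B ⊗[R] (B ⊗[R] B)) := Module.Finite.trans B _
  obtain ⟨A, _, _, hd, hiso⟩ := exists_lift I π hπ hπR hker e (liftProp_of_henselian I B)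
    (liftProp_of_henselian I _) (liftProp_of_henselian I _)
  exact ⟨A, _, _, ⟨B, _, _, hetB, hfinB, inferInstance, hd⟩, hiso⟩

/-- Finite isotrivial lifts are finite. -/
theorem finite_of_isIsotrivial {A : Type u} [CommRing A] [HopfAlgebra R A]
    [Module.Finite (R ⧸ I) ((R ⧸ I) ⊗[R] A)] (h : IsIsotrivial R A) : Module.Finite R A := by
  obtain ⟨S, _, _, -, hfin, hff, M, _, ⟨γ⟩⟩ := h
  suffices Module.Finite S (S ⊗[R] A) from Module.Finite.of_finite_tensorProduct_of_faithfullyFlat S
  rcases subsingleton_or_nontrivial S with hS | hS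
  · have : Subsingleton (S ⊗[R] A) := Module.subsingleton S _
    infer_instance
  obtain ⟨m, hm⟩ := Ideal.exists_maximal S
  have hIm : I.map (algebraMap R S) ≤ m := by
    rw [Ideal.map_le_iff_le_comap]
    have : (m.comap (algebraMap R S)).IsMaximal := Ideal.isMaximal_comap_of_isIntegral_of_isMaximal m
    exact (HenselianRing.jac (I := I)).trans (sInf_le ⟨bot_le, this⟩)
  let K := S ⧸ m
  let : Algebra (R ⧸ I) K := (Ideal.quotientMap m (algebraMap R S)
    (Ideal.map_le_iff_le_comap.1 hIm)).toAlgebra
  have : IsScalarTower R (R ⧸ I) K := IsScalarTower.of_algebraMap_eq fun r => rfl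
  have h1 : Module.Finite K (K ⊗[R] A) :=
    Module.Finite.equiv (Algebra.TensorProduct.cancelBaseChange R (R ⧸ I) K K A).toLinearEquiv
  have h2 : Module.Finite K (K ⊗[S] MonoidAlgebra S M) :=
    Module.Finite.equiv ((Algebra.TensorProduct.cancelBaseChange R S K K A).symm.trans
      (Algebra.TensorProduct.congr AlgEquiv.refl γ.toAlgEquiv)).toLinearEquiv
  have : Nontrivial K := Ideal.Quotient.nontrivial_iff.2 hm.ne_top
  have hM : Finite M :=
    Module.Finite.finite_basis ((MonoidAlgebra.basis M S).baseChange K)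
  have : Module.Finite S (MonoidAlgebra S M) := Module.Finite.of_basis (MonoidAlgebra.basis M S)
  exact Module.Finite.equiv γ.toAlgEquiv.symm.toLinearEquiv

end Groth.Agent.Misc12.MultLift
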